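import Groth.Prelude.Def_FrobAlg
import Mathlib.FieldTheory.PerfectClosure
import Mathlib.RingTheory.TensorProduct.DirectLimitFG
import Mathlib.RingTheory.Flat.FaithfullyFlat.Algebra
import Mathlib.LinearAlgebra.DirectSum.Finsupp

/-!
# Tensoring products with the perfection of a ring with projective Frobenius
-/

set_option autoImplicit false

universe u v

open TensorProduct

namespace Groth.Agent.PerfPi

/-- A projective module stays a module of sections: tensoring with products is injective. -/
theorem eq_zero_of_components {R : Type*} [CommRing R] {T : Type*} [AddCommGroup T] [Module R T] [Module.Projective R T]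
    {ι : Type*} {M : ι → Type*} [∀ i, AddCommGroup (M i)] [∀ i, Module R (M i)] (x : T ⊗[R] (Π i, M i))
    (h : ∀ i, LinearMap.lTensor T (LinearMap.proj i) x = 0) : x = 0 := by
  classical
  obtain ⟨s, hs⟩ := Module.projective_def'.1 ‹Module.Projective R T›
  let z := TensorProduct.finsuppScalarLeft R (Π i, M i) T (LinearMap.rTensor _ s x)
  have hz : z = 0 := by
    refine Finsupp.ext fun t => funext fun i => ?_
    have hnat : ∀ w : (T →₀ R) ⊗[R] (Π i, M i),
        TensorProduct.finsuppScalarLeft R (Π i, M i) T w t i =
          TensorProduct.finsuppScalarLeft R (M i) T (LinearMap.lTensor _ (LinearMap.proj i) w) t := fun w => by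
      induction w using TensorProduct.induction_on with
      | zero => simp
      | tmul a m => simp [TensorProduct.finsuppScalarLeft_apply_tmul_apply]
      | add a b ha hb => simp [ha, hb]
    show TensorProduct.finsuppScalarLeft R (Π i, M i) T (LinearMap.rTensor _ s x) t i = 0
    rw [hnat, ← LinearMap.comp_apply (LinearMap.lTensor _ _), LinearMap.lTensor_comp_rTensor, ← LinearMap.rTensor_comp_lTensor,
      LinearMap.comp_apply, h i, map_zero, map_zero, Finsupp.zero_apply]
  have h1 : LinearMap.rTensor (Π i, M i) s x = 0 := (LinearEquiv.map_eq_zero_iff _).1 hz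
  have h2 := congrArg (LinearMap.rTensor (Π i, M i) (Finsupp.linearCombination R id)) h1
  rw [← LinearMap.comp_apply, ← LinearMap.rTensor_comp, hs, map_zero, LinearMap.rTensor_id, LinearMap.id_apply] at h2
  exact h2

set_option linter.unusedVariables false in
/-- The ring regarded as an algebra over itself through an iterate of Frobenius. -/
@[nolint unusedArguments] def Fr (p : ℕ) (R : Type u) (n : ℕ) : Type u := R

section Frob

variable (p : ℕ) [Fact p.Prime] (R : Type u) [CommRing R] [CharP R p]


instance (n : ℕ) : CommRing (Fr p R n) := inferInstanceAs (CommRing R)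

/-- The identity. -/
def toFr (n : ℕ) : R ≃+* Fr p R n := RingEquiv.refl R

noncomputable instance (n : ℕ) : Algebra R (Fr p R n) :=
  ((toFr p R n : R →+* Fr p R n).comp (iterateFrobenius R p n)).toAlgebra

theorem algebraMap_fr (n : ℕ) (r : R) : algebraMap R (Fr p R n) r = toFr p R n (r ^ p ^ n) := by
  rw [RingHom.algebraMap_toAlgebra, RingHom.comp_apply, iterateFrobenius_def]; rfl

theorem smul_fr (n : ℕ) (r : R) (x : Fr p R n) : r • x = toFr p R n (r ^ p ^ n) * x := by
  rw [Algebra.smul_def, algebraMap_fr]

/-- One step of Frobenius. -/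
noncomputable def stepHom (n : ℕ) : Fr p R n →+* Fr p R (n + 1) :=
  (toFr p R (n + 1) : R →+* Fr p R (n + 1)).comp ((frobenius R p).comp ((toFr p R n).symm : Fr p R n →+* R))

theorem stepHom_apply (n : ℕ) (x : R) : stepHom p R n (toFr p R n x) = toFr p R (n + 1) (x ^ p) := rfl

noncomputable instance (n : ℕ) : Algebra (Fr p R n) (Fr p R (n + 1)) := (stepHom p R n).toAlgebra

instance (n : ℕ) : IsScalarTower R (Fr p R n) (Fr p R (n + 1)) := .of_algebraMap_eq fun r => by
  rw [algebraMap_fr, algebraMap_fr, RingHom.algebraMap_toAlgebra, stepHom_apply, ← pow_mul, ← pow_succ]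

variable [Module.Projective R (FrobAlg.Twist p R)]

instance step_projective (n : ℕ) : Module.Projective (Fr p R n) (Fr p R (n + 1)) := by
  classical
  let e : R ≃+* Fr p R n := toFr p R n
  let f : FrobAlg.Twist p R ≃+* Fr p R (n + 1) := (FrobAlg.toTwist p R).symm.trans (toFr p R (n + 1))
  have hf : ∀ (r : R) (x : FrobAlg.Twist p R), f (r • x) = e r • f x := fun r x => by
    rw [Algebra.smul_def, Algebra.smul_def, map_mul, FrobAlg.algebraMap_twist, RingHom.algebraMap_toAlgebra, stepHom_apply]
    rfl
  obtain ⟨s, hs⟩ := Module.projective_def'.1 ‹Module.Projective R (FrobAlg.Twist p R)›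
  let E : (FrobAlg.Twist p R →₀ R) →+ (Fr p R (n + 1) →₀ Fr p R n) :=
    (Finsupp.mapDomain.addMonoidHom f).comp (Finsupp.mapRange.addMonoidHom (e : R →+* Fr p R n).toAddMonoidHom)
  have hE : ∀ a r, E (Finsupp.single a r) = Finsupp.single (f a) (e r) := fun a r => by
    simp [E, Finsupp.mapRange_single, Finsupp.mapDomain_single]
  have hEsmul : ∀ (r : R) (v : FrobAlg.Twist p R →₀ R), E (r • v) = e r • E v := fun r v => by
    induction v using Finsupp.induction_linear with
    | zero => simp
    | add a b ha hb => simp [smul_add, ha, hb]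
    | single a b => rw [Finsupp.smul_single, hE, hE, Finsupp.smul_single, smul_eq_mul, smul_eq_mul, map_mul]
  let s' : Fr p R (n + 1) →ₗ[Fr p R n] (Fr p R (n + 1) →₀ Fr p R n) :=
    { toFun := fun y => E (s (f.symm y))
      map_add' := fun a b => by simp
      map_smul' := fun c y => by
        have : f.symm (c • y) = e.symm c • f.symm y := f.injective (by
          rw [hf, RingEquiv.apply_symm_apply, RingEquiv.apply_symm_apply, RingEquiv.apply_symm_apply])
        rw [this, map_smul, hEsmul, RingEquiv.apply_symm_apply, RingHom.id_apply] }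
  refine Module.projective_def'.2 ⟨s', LinearMap.ext fun y => ?_⟩
  have hl : ∀ v, Finsupp.linearCombination (Fr p R n) id (E v) = f (Finsupp.linearCombination R id v) := fun v => by
    induction v using Finsupp.induction_linear with
    | zero => simp
    | add a b ha hb => simp [ha, hb]
    | single a b => rw [hE, Finsupp.linearCombination_single, Finsupp.linearCombination_single, id_eq, id_eq, hf]
  show Finsupp.linearCombination (Fr p R n) id (E (s (f.symm y))) = y
  rw [hl, ← LinearMap.comp_apply, hs, LinearMap.id_apply, RingEquiv.apply_symm_apply]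

instance step_faithfullyFlat (n : ℕ) : Module.FaithfullyFlat (Fr p R n) (Fr p R (n + 1)) where
  submodule_ne_top := fun m hm h => by
    refine hm.ne_top ((Ideal.eq_top_iff_one _).2 ?_)
    have hle : ∀ y ∈ (m • ⊤ : Submodule (Fr p R n) (Fr p R (n + 1))), toFr p R n ((toFr p R (n + 1)).symm y) ∈ m := fun y hy => by
      refine Submodule.smul_induction_on hy (fun a ha z _ => ?_) fun a b ha hb => ?_
      · rw [Algebra.smul_def, RingHom.algebraMap_toAlgebra, map_mul, map_mul]
        refine Ideal.mul_mem_right _ _ ?_
        show toFr p R n (((toFr p R n).symm a) ^ p) ∈ m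
        rw [map_pow, RingEquiv.apply_symm_apply]
        exact Ideal.pow_mem_of_mem m ha p (Fact.out : p.Prime).pos
      · rw [map_add, map_add]; exact add_mem ha hb
    simpa using hle 1 (h.symm ▸ Submodule.mem_top)

theorem fr_projective (n : ℕ) : Module.Projective R (Fr p R n) := by
  induction n with
  | zero =>
    refine Module.Projective.of_equiv (LinearEquiv.ofBijective (Algebra.linearMap R (Fr p R 0)) ?_)
    have : ⇑(Algebra.linearMap R (Fr p R 0)) = toFr p R 0 := funext fun r => by
      rw [Algebra.linearMap_apply, algebraMap_fr, pow_zero, pow_one]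
    rw [this]
    exact (toFr p R 0).bijective
  | succ n ih =>
    haveI := ih
    obtain ⟨s, hs⟩ := Module.projective_def'.1 (step_projective p R n)
    haveI : Module.Projective R (Fr p R (n + 1) →₀ Fr p R n) := by
      classical
      exact Module.Projective.of_equiv (TensorProduct.finsuppScalarLeft R (Fr p R n) (Fr p R (n + 1)))
    exact Module.Projective.of_split (s.restrictScalars R) ((Finsupp.linearCombination (Fr p R n) id).restrictScalars R)
      (LinearMap.ext fun y => LinearMap.congr_fun hs y)

/-- The transition map. -/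
noncomputable def incl (n : ℕ) : Fr p R n →ₗ[R] Fr p R (n + 1) :=
  (IsScalarTower.toAlgHom R (Fr p R n) (Fr p R (n + 1))).toLinearMap

theorem incl_rTensor_injective (n : ℕ) (M : Type v) [AddCommGroup M] [Module R M] :
    Function.Injective (LinearMap.rTensor M (incl p R n)) := by
  let e := AlgebraTensorModule.cancelBaseChange R (Fr p R n) (Fr p R n) (Fr p R (n + 1)) M
  have h : ∀ x, LinearMap.rTensor M (incl p R n) x = e ((1 : Fr p R (n + 1)) ⊗ₜ[Fr p R n] x) := fun x => by
    induction x using TensorProduct.induction_on with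
    | zero => simp
    | tmul a m => simp [e, incl, Algebra.smul_def]
    | add a b ha hb => rw [map_add, tmul_add, map_add, ha, hb]
  intro x y hxy
  rw [h, h] at hxy
  exact Module.FaithfullyFlat.tensorProduct_mk_injective (A := Fr p R n) (B := Fr p R (n + 1)) _ (e.injective hxy)

omit [Module.Projective R (FrobAlg.Twist p R)] in
theorem mk_mul_of (n : ℕ) (r x : R) :
    PerfectClosure.of R p r * PerfectClosure.mk R p (n, x) = PerfectClosure.mk R p (n, r ^ p ^ n * x) := by
  rw [PerfectClosure.of_apply, PerfectClosure.mk_mul_mk]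
  simp [← frobenius_def, ← coe_iterateFrobenius, iterateFrobenius_def]

/-- The stage map to the perfection. -/
noncomputable def stage (n : ℕ) :
    letI : Algebra R (PerfectClosure R p) := (PerfectClosure.of R p).toAlgebra
    Fr p R n →ₗ[R] PerfectClosure R p :=
  letI : Algebra R (PerfectClosure R p) := (PerfectClosure.of R p).toAlgebra
  { toFun := fun x => PerfectClosure.mk R p (n, (toFr p R n).symm x)
    map_add' := fun x y => by
      rw [PerfectClosure.mk_add_mk, map_add]
      refine (PerfectClosure.mk_eq_iff R p _ _).2 ⟨0, ?_⟩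
      simp only [← coe_iterateFrobenius, iterateFrobenius_def, zero_add, add_zero]
      simp only [← add_pow_char_pow, ← pow_mul, ← pow_add]
    map_smul' := fun r x => by
      rw [RingHom.id_apply, smul_fr, map_mul, RingEquiv.symm_apply_apply, Algebra.smul_def, RingHom.algebraMap_toAlgebra,
        mk_mul_of] }

omit [Module.Projective R (FrobAlg.Twist p R)] in
theorem stage_incl (n : ℕ) (x : Fr p R n) : stage p R (n + 1) (incl p R n x) = stage p R n x := by
  show PerfectClosure.mk R p (n + 1, ((toFr p R n).symm x) ^ p) = PerfectClosure.mk R p (n, (toFr p R n).symm x)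
  exact PerfectClosure.mk_succ_pow R p _ _

/-- The composed transition map. -/
noncomputable def inclTo (n : ℕ) : ∀ j : ℕ, Fr p R n →ₗ[R] Fr p R (n + j)
  | 0 => LinearMap.id
  | j + 1 => (incl p R (n + j)).comp (inclTo n j)

omit [Module.Projective R (FrobAlg.Twist p R)] in
theorem stage_inclTo (n j : ℕ) (x : Fr p R n) : stage p R (n + j) (inclTo p R n j x) = stage p R n x := by
  induction j with
  | zero => rfl
  | succ j ih => rw [← ih]; exact stage_incl p R (n + j) _

theorem inclTo_rTensor_injective (n j : ℕ) (M : Type v) [AddCommGroup M] [Module R M] :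
    Function.Injective (LinearMap.rTensor M (inclTo p R n j)) := by
  induction j with
  | zero => simpa [inclTo] using Function.injective_id
  | succ j ih =>
    show Function.Injective (LinearMap.rTensor M ((incl p R (n + j)).comp (inclTo p R n j)))
    rw [LinearMap.rTensor_comp]
    exact (incl_rTensor_injective p R (n + j) M).comp ih

theorem frobenius_injective : Function.Injective (frobenius R p) := by
  have h := FaithfulSMul.algebraMap_injective (Fr p R 0) (Fr p R 1)
  intro x y hxy
  exact (toFr p R 0).injective (h (by
    simp only [RingHom.algebraMap_toAlgebra, stepHom_apply]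
    exact congrArg (toFr p R 1) hxy))

theorem stage_injective (n : ℕ) : Function.Injective (stage p R n) := fun x y h => by
  obtain ⟨z, hz⟩ := (PerfectClosure.mk_eq_iff R p _ _).1 h
  exact (toFr p R n).symm.injective (((frobenius_injective p R).iterate _) hz)

omit [Module.Projective R (FrobAlg.Twist p R)] in
theorem exists_stage_of_fg :
    letI : Algebra R (PerfectClosure R p) := (PerfectClosure.of R p).toAlgebra
    ∀ (Q : Submodule R (PerfectClosure R p)), Q.FG → ∀ n₀ : ℕ,
      ∃ j : ℕ, Q ≤ LinearMap.range (stage p R (n₀ + j)) := by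
  letI : Algebra R (PerfectClosure R p) := (PerfectClosure.of R p).toAlgebra
  intro Q hQ n₀
  have hmono : ∀ n j, LinearMap.range (stage p R n) ≤ LinearMap.range (stage p R (n + j)) := by
    rintro n j _ ⟨x, rfl⟩
    exact ⟨_, stage_inclTo p R n j x⟩
  induction Q, hQ using Submodule.fg_induction with
  | singleton c =>
    induction c using PerfectClosure.induction_on with
    | _ a =>
      refine ⟨a.1, (Submodule.span_le).2 (Set.singleton_subset_iff.2 ?_)⟩
      rw [Nat.add_comm]
      exact hmono a.1 n₀ ⟨toFr p R a.1 a.2, by simp [stage]⟩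
  | sup Q₁ _ Q₂ _ h₁ h₂ =>
    obtain ⟨j₁, h₁⟩ := h₁
    obtain ⟨j₂, h₂⟩ := h₂
    refine ⟨j₁ + j₂, sup_le (h₁.trans ?_) (h₂.trans ?_)⟩
    · rw [← Nat.add_assoc]; exact hmono _ _
    · rw [Nat.add_comm j₁, ← Nat.add_assoc]; exact hmono _ _

/-- A stage element vanishing in the perfection vanishes. -/
theorem stage_rTensor_injective (n : ℕ) (M : Type v) [AddCommGroup M] [Module R M] :
    letI : Algebra R (PerfectClosure R p) := (PerfectClosure.of R p).toAlgebra
    ∀ x : Fr p R n ⊗[R] M, LinearMap.rTensor M (stage p R n) x = 0 → x = 0 := by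
  letI : Algebra R (PerfectClosure R p) := (PerfectClosure.of R p).toAlgebra
  intro x hx
  obtain ⟨Q, hQ, t, ht⟩ := TensorProduct.exists_of_fg x
  let Q' := Q.map (stage p R n)
  let g : Q →ₗ[R] Q' := ((stage p R n).comp Q.subtype).codRestrict Q' fun q => ⟨q.1, q.2, rfl⟩
  have h0 : LinearMap.rTensor M Q'.subtype (LinearMap.rTensor M g t) = 0 := by
    rw [← LinearMap.comp_apply, ← LinearMap.rTensor_comp, LinearMap.subtype_comp_codRestrict, LinearMap.rTensor_comp,
      LinearMap.comp_apply, ht, hx]
  obtain ⟨Q₂, hle, hQ₂, h2⟩ := TensorProduct.eq_zero_of_fg_of_subtype_eq_zero (hQ.map _) h0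
  obtain ⟨j, hj⟩ := exists_stage_of_fg p R Q₂ hQ₂ n
  let e := LinearEquiv.ofInjective (stage p R (n + j)) (stage_injective p R (n + j))
  let back : Q₂ →ₗ[R] Fr p R (n + j) := e.symm.toLinearMap.comp (Submodule.inclusion hj)
  have hcomp : back.comp ((Submodule.inclusion hle).comp g) = (inclTo p R n j).comp Q.subtype := LinearMap.ext fun q => by
    refine stage_injective p R (n + j) ?_
    simp only [LinearMap.comp_apply, back, LinearEquiv.coe_coe, Submodule.subtype_apply, stage_inclTo]
    exact congrArg Subtype.val (e.apply_symm_apply _)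
  refine inclTo_rTensor_injective p R n j M ?_
  rw [map_zero, ← ht, ← LinearMap.comp_apply, ← LinearMap.rTensor_comp, ← hcomp]
  simp only [LinearMap.rTensor_comp, LinearMap.comp_apply, h2, map_zero]

/-- Tensoring a submodule of a product with the perfection is componentwise injective. -/
theorem pi_injective {ι : Type*} {M : ι → Type v} [∀ i, AddCommGroup (M i)] [∀ i, Module R (M i)]
    {L : Type*} [AddCommGroup L] [Module R L] (φ : ∀ i, L →ₗ[R] M i) (hφ : Function.Injective (LinearMap.pi φ)) :
    letI : Algebra R (PerfectClosure R p) := (PerfectClosure.of R p).toAlgebra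
    Function.Injective (LinearMap.pi fun i => LinearMap.lTensor (PerfectClosure R p) (φ i)) := by
  letI : Algebra R (PerfectClosure R p) := (PerfectClosure.of R p).toAlgebra
  refine (injective_iff_map_eq_zero _).2 fun x hx => ?_
  obtain ⟨Q, hQ, t, rfl⟩ := TensorProduct.exists_of_fg x
  obtain ⟨n, hn⟩ := exists_stage_of_fg p R Q hQ 0
  let e := LinearEquiv.ofInjective (stage p R (0 + n)) (stage_injective p R (0 + n))
  let back : Q →ₗ[R] Fr p R (0 + n) := e.symm.toLinearMap.comp (Submodule.inclusion hn)
  have hback : (stage p R (0 + n)).comp back = Q.subtype := LinearMap.ext fun q =>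
    congrArg Subtype.val (e.apply_symm_apply (Submodule.inclusion hn q))
  let y := LinearMap.rTensor L back t
  have hy : LinearMap.rTensor L (stage p R (0 + n)) y = LinearMap.rTensor L Q.subtype t := by
    rw [← hback, LinearMap.rTensor_comp]; rfl
  rw [← hy] at hx ⊢
  haveI := fr_projective p R (0 + n)
  suffices y = 0 by rw [this, map_zero]
  have h1 : LinearMap.lTensor (Fr p R (0 + n)) (LinearMap.pi φ) y = 0 := by
    refine eq_zero_of_components _ fun i => stage_rTensor_injective p R (0 + n) (M i) _ ?_
    rw [← LinearMap.comp_apply (LinearMap.lTensor _ _), ← LinearMap.lTensor_comp, LinearMap.proj_pi,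
      ← LinearMap.comp_apply, LinearMap.rTensor_comp_lTensor, ← LinearMap.lTensor_comp_rTensor, LinearMap.comp_apply]
    exact congrFun hx i
  exact (injective_iff_map_eq_zero _).1 (Module.Flat.lTensor_preserves_injective_linearMap _ hφ) y h1

end Frob

end Groth.Agent.PerfPi
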